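import Groth.Agent.Lib.Helper7.GrSect.Num

/-! Generators of the irrelevant ideal of `R_P` (helper7). -/

set_option autoImplicit false

namespace Groth.Agent.H7.GrSect

open FunFld WithZero W4c6gradedringsgw Polynomial

variable {k K : Type*} [Field k] [Field K] [Algebra k K] (hK : IsFunctionField k K)

section Gen

variable (P : Place k K) (hP : P.deg = 1) (π : K) (hπ : P.1 π = exp (-1 : ℤ))
  (hg : 1 ≤ genus k K)

/-- the irrelevant ideal of `R_P` -/
noncomputable abbrev Rplus : Ideal (RP P) :=
  RingHom.ker (Polynomial.constantCoeff.comp (RP P).val.toRingHom)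

theorem mem_Rplus_iff (p : RP P) : p ∈ Rplus P ↔ (p : K[X]).coeff 0 = 0 := by
  rw [RingHom.mem_ker]
  rfl

open scoped Classical in
/-- `f T^n` as an element of the section ring (`0` if `f ∉ L(nP)`) -/
noncomputable def mono (n : ℕ) (f : K) : RP P :=
  if hf : f ∈ L (Finsupp.single P (n : ℤ) : Divisor k K) then
    ⟨monomial n f, by
      rw [mem_RP_iff]
      intro m
      rw [coeff_monomial]
      split_ifs with h
      · subst h; exact hf
      · exact zero_mem _⟩
  else 0

theorem coe_mono {n : ℕ} {f : K} (hf : f ∈ L (Finsupp.single P (n : ℤ) : Divisor k K)) :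
    ((mono P n f : RP P) : K[X]) = monomial n f := by
  unfold mono
  rw [dif_pos hf]

theorem mono_mem_Rplus {n : ℕ} (hn : n ≠ 0) (f : K) : mono P n f ∈ Rplus P := by
  rw [mem_Rplus_iff]
  by_cases hf : f ∈ L (Finsupp.single P (n : ℤ) : Divisor k K)
  · rw [coe_mono P hf, coeff_monomial, if_neg hn]
  · unfold mono
    rw [dif_neg hf]
    rfl

include hK in
theorem one_mem_L_single (n : ℕ) : (1 : K) ∈ L (Finsupp.single P (n : ℤ) : Divisor k K) := by
  apply L_single_mono P (show (0 : ℤ) ≤ n by omega)
  rw [Finsupp.single_zero, L_zero hK]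
  exact Submodule.one_le.1 le_rfl

include hK hP hπ in
theorem mono_mem_of_gens (xf : ℕ → K)
    (hxf : ∀ n ∈ semi hK P, xf n ∈ L (Finsupp.single P (n : ℤ) : Divisor k K) ∧
      P.1 (xf n) = exp (n : ℤ))
    (I : Ideal (RP P)) (hT : mono P 1 1 ∈ I)
    (hI : ∀ h ∈ minGens (semi hK P : Set ℕ), mono P h (xf h) ∈ I) :
    ∀ j n : ℕ, 1 ≤ n → j ≤ n → ∀ f ∈ L (Finsupp.single P (j : ℤ) : Divisor k K),
      mono P n f ∈ I := by
  intro j
  induction j using Nat.strong_induction_on with
  | _ j ih =>
    intro n hn hjn f hf
    have hfn : f ∈ L (Finsupp.single P (n : ℤ) : Divisor k K) :=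
      L_single_mono P (by exact_mod_cast hjn) hf
    rcases Nat.eq_zero_or_pos j with rfl | hj
    · have hf' : f ∈ L (Finsupp.single P ((n - 1 : ℕ) : ℤ) : Divisor k K) :=
        L_single_mono P (by omega) hf
      have : mono P n f = mono P 1 1 * mono P (n - 1) f := by
        apply Subtype.ext
        rw [MulMemClass.coe_mul, coe_mono P hfn, coe_mono P hf',
          coe_mono P (by exact_mod_cast one_mem_L_single hK P 1), monomial_mul_monomial, one_mul,
          show 1 + (n - 1) = n by omega]
      rw [this]
      exact I.mul_mem_right _ hT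
    · by_cases hgap : IsGap P (j : ℤ)
      · rw [IsGap] at hgap
        rw [hgap, show (j : ℤ) - 1 = ((j - 1 : ℕ) : ℤ) by omega] at hf
        exact ih (j - 1) (by omega) n hn (by omega) f hf
      · obtain ⟨h, hh, j', hj', rfl⟩ :=
          exists_minGen_add (semi hK P) j ((mem_semi hK P j).2 hgap) (by omega)
        obtain ⟨hx, hvx⟩ := hxf h hh.1
        obtain ⟨hz, hvz⟩ := hxf j' hj'
        set x := xf h with hxdef
        set z := xf j' with hzdef
        have hy : x * z ∈ L (Finsupp.single P ((h + j' : ℕ) : ℤ) : Divisor k K) := by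
          have := mul_mem_L hx hz
          rwa [← Finsupp.single_add, ← Nat.cast_add] at this
        have hvy : P.1 (x * z) = exp ((h + j' : ℕ) : ℤ) := by
          rw [map_mul, hvx, hvz, ← exp_add, Nat.cast_add]
        have hly := lam_ne_zero_of_v_eq P hP π hπ hvy
        set c : k := lam P hP π (h + j') f / lam P hP π (h + j') (x * z) with hc
        have hvf := ((mem_L_single_iff P).1 hf).1
        have hf'1 : f + (-c) • (x * z) ∈ L (Finsupp.single P ((h + j' : ℕ) : ℤ) : Divisor k K) :=
          add_mem hf (Submodule.smul_mem _ _ hy)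
        have hf'2 : f + (-c) • (x * z) ∈
            L (Finsupp.single P (((h + j' - 1 : ℕ) : ℕ) : ℤ) : Divisor k K) := by
          rw [show (((h + j' - 1 : ℕ) : ℕ) : ℤ) = ((h + j' : ℕ) : ℤ) - 1 by omega,
            ← lam_eq_zero_iff_mem P hP π hπ hf'1, lam_add P hP π hπ hvf, lam_smul P hP π hπ _ hvy.le,
            hc]
          · field_simp
            ring
          · have := ((mem_L_single_iff P).1 (Submodule.smul_mem (L _) (-c) hy)).1
            exact this
        have h1 := ih (h + j' - 1) (by omega) n hn (by omega) _ hf'2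
        have hz' : z ∈ L (Finsupp.single P ((n - h : ℕ) : ℤ) : Divisor k K) :=
          L_single_mono P (by omega) hz
        have h2 : mono P h x * mono P (n - h) z ∈ I := I.mul_mem_right _ (hI h hh)
        have h3 : c • (mono P h x * mono P (n - h) z) ∈ I := I.smul_of_tower_mem c h2
        have : mono P n f = mono P n (f + (-c) • (x * z)) + c • (mono P h x * mono P (n - h) z) := by
          apply Subtype.ext
          rw [AddMemClass.coe_add, SetLike.val_smul, MulMemClass.coe_mul, coe_mono P hfn,
            coe_mono P (L_single_mono P (by exact_mod_cast hjn) hf'1), coe_mono P hx, coe_mono P hz',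
            monomial_mul_monomial, show h + (n - h) = n by omega, smul_monomial, ← map_add]
          congr 1
          rw [neg_smul]
          ring
        rw [this]
        exact I.add_mem h1 h3

open scoped Classical in
/-- chosen functions with exact pole order `n` at `P` for `n` in the Weierstrass semigroup -/
noncomputable def xf (n : ℕ) : K :=
  if h : n ∈ semi hK P then Classical.choose ((not_isGap_iff P (n : ℤ)).1 h) else 0

theorem xf_spec : ∀ n ∈ semi hK P, xf hK P n ∈ L (Finsupp.single P (n : ℤ) : Divisor k K) ∧
    P.1 (xf hK P n) = exp (n : ℤ) := by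
  intro n hn
  unfold xf
  rw [dif_pos hn]
  exact Classical.choose_spec ((not_isGap_iff P (n : ℤ)).1 hn)

/-- the generating set `T`, `x_h T^h` (`h` a minimal generator) of the irrelevant ideal -/
noncomputable def gens : Set (RP P) :=
  insert (mono P 1 1) ((fun h => mono P h (xf hK P h)) '' minGens (semi hK P : Set ℕ))

include hP hπ in
theorem span_gens : Ideal.span (gens hK P) = Rplus P := by
  apply le_antisymm
  · rw [Ideal.span_le]
    rintro g (rfl | ⟨h, hh, rfl⟩)
    · exact mono_mem_Rplus P one_ne_zero 1
    · exact mono_mem_Rplus P hh.2.1 _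
  · intro p hp
    rw [mem_Rplus_iff] at hp
    have key := mono_mem_of_gens hK P hP π hπ (xf hK P) (xf_spec hK P) (Ideal.span (gens hK P))
      (Ideal.subset_span (Set.mem_insert _ _))
      (fun h hh => Ideal.subset_span (Set.mem_insert_of_mem _ ⟨h, hh, rfl⟩))
    have : p = ∑ n ∈ (p : K[X]).support, mono P n ((p : K[X]).coeff n) := by
      apply Subtype.ext
      rw [AddSubmonoidClass.coe_finset_sum]
      conv_lhs => rw [(p : K[X]).as_sum_support]
      refine Finset.sum_congr rfl fun n _ => ?_
      rw [coe_mono P (coeff_mem P p n)]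
    rw [this]
    refine Ideal.sum_mem _ fun n hn => ?_
    have hn0 : n ≠ 0 := by
      rintro rfl
      exact (mem_support_iff.1 hn) hp
    exact key n n (by omega) le_rfl _ (coeff_mem P p n)

include hP in
theorem gens_finite : (gens hK P).Finite := by
  have hfin := minGens_poleOrders_finite hK P hP
  rw [poleOrders_eq hK P hP] at hfin
  exact (hfin.image _).insert _

include hP in
theorem ncard_gens_le : (gens hK P).ncard ≤ (minGens (poleOrders P)).ncard + 1 := by
  have hfin := minGens_poleOrders_finite hK P hP
  rw [poleOrders_eq hK P hP] at hfin ⊢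
  unfold gens
  exact (Set.ncard_insert_le _ _).trans (Nat.add_le_add_right (Set.ncard_image_le hfin) 1)

include hK hP hπ in
theorem Rplus_fg : (Rplus P).FG := by
  rw [← span_gens hK P hP π hπ]
  exact ⟨(gens_finite hK P hP).toFinset, by simp⟩

include hK hP hπ in
theorem spanFinrank_Rplus_le :
    (Rplus P).spanFinrank ≤ (minGens (poleOrders P)).ncard + 1 := by
  rw [← span_gens hK P hP π hπ]
  exact (Submodule.spanFinrank_span_le_ncard_of_finite (gens_finite hK P hP)).trans
    (ncard_gens_le hK P hP)

end Gen

end Groth.Agent.H7.GrSect
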