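import Groth.Agent.Lib.Helper7.GrSect.Resc

/-! Leading-coefficient functionals on `L(nP)` (helper7). -/

set_option autoImplicit false

namespace Groth.Agent.H7.GrSect

open FunFld WithZero

variable {k K : Type*} [Field k] [Field K] [Algebra k K]

section Lam

variable (P : Place k K) (hP : P.deg = 1) (π : K) (hπ : P.1 π = exp (-1 : ℤ))

theorem mem_L_single_iff {n : ℤ} {f : K} :
    f ∈ L (Finsupp.single P n : Divisor k K) ↔ P.1 f ≤ exp n ∧ ∀ Q : Place k K, Q ≠ P → Q.1 f ≤ 1 := by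
  classical
  constructor
  · intro hf
    refine ⟨by simpa using hf P, fun Q hQ => v_le_one_of_mem_L_single hQ hf⟩
  · rintro ⟨h1, h2⟩ Q
    by_cases hQ : Q = P
    · subst hQ; simpa using h1
    · rw [Finsupp.single_eq_of_ne hQ, exp_zero]; exact h2 Q hQ

include hπ in
theorem v_pow (n : ℕ) : P.1 (π ^ n) = exp (-(n : ℤ)) := by
  rw [map_pow, hπ, ← exp_nsmul]
  congr 1
  simp

include hπ in
theorem v_mul_pow (n : ℕ) (f : K) : P.1 (f * π ^ n) = P.1 f * (exp (n : ℤ))⁻¹ := by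
  rw [map_mul, v_pow P π hπ, exp_neg]

include hπ in
theorem v_mul_pow_le {n : ℕ} {f : K} (hf : P.1 f ≤ exp (n : ℤ)) : P.1 (f * π ^ n) ≤ 1 := by
  rw [v_mul_pow P π hπ]
  exact (mul_inv_le_iff₀ exp_pos).2 (by simpa using hf)

include hπ in
theorem v_mul_pow_lt_iff {n : ℕ} {f : K} : P.1 (f * π ^ n) < 1 ↔ P.1 f ≤ exp ((n : ℤ) - 1) := by
  rw [v_mul_pow P π hπ, mul_inv_lt_iff₀ exp_pos, one_mul]
  have : exp (n : ℤ) = exp ((n : ℤ) - 1) * exp (1 : ℤ) := by
    rw [← exp_add]; congr 1; ring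
  rw [this]
  exact lt_mul_exp_iff_le exp_ne_zero

/-- the leading coefficient of `f ∈ L(nP)` at `P` with respect to the uniformizer `π` -/
noncomputable def lam (n : ℕ) (f : K) : k := resc P hP (f * π ^ n)

include hπ in
theorem lam_add {n : ℕ} {f g : K} (hf : P.1 f ≤ exp (n : ℤ)) (hg : P.1 g ≤ exp (n : ℤ)) :
    lam P hP π n (f + g) = lam P hP π n f + lam P hP π n g := by
  unfold lam
  rw [add_mul]
  exact resc_add P hP (v_mul_pow_le P π hπ hf) (v_mul_pow_le P π hπ hg)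

include hπ in
theorem lam_smul {n : ℕ} (c : k) {f : K} (hf : P.1 f ≤ exp (n : ℤ)) :
    lam P hP π n (c • f) = c * lam P hP π n f := by
  unfold lam
  rw [smul_mul_assoc]
  exact resc_smul P hP c (v_mul_pow_le P π hπ hf)

include hπ in
theorem lam_mul {n m : ℕ} {f g : K} (hf : P.1 f ≤ exp (n : ℤ)) (hg : P.1 g ≤ exp (m : ℤ)) :
    lam P hP π (n + m) (f * g) = lam P hP π n f * lam P hP π m g := by
  unfold lam
  have : f * g * π ^ (n + m) = (f * π ^ n) * (g * π ^ m) := by ring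
  rw [this]
  exact resc_mul P hP (v_mul_pow_le P π hπ hf) (v_mul_pow_le P π hπ hg)

include hπ in
theorem lam_eq_zero_iff {n : ℕ} {f : K} (hf : P.1 f ≤ exp (n : ℤ)) :
    lam P hP π n f = 0 ↔ P.1 f ≤ exp ((n : ℤ) - 1) := by
  unfold lam
  rw [resc_eq_zero_iff P hP (v_mul_pow_le P π hπ hf), v_mul_pow_lt_iff P π hπ]

include hπ in
theorem lam_eq_zero_iff_mem {n : ℕ} {f : K} (hf : f ∈ L (Finsupp.single P (n : ℤ) : Divisor k K)) :
    lam P hP π n f = 0 ↔ f ∈ L (Finsupp.single P ((n : ℤ) - 1) : Divisor k K) := by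
  rw [mem_L_single_iff] at hf
  rw [lam_eq_zero_iff P hP π hπ hf.1, mem_L_single_iff]
  exact ⟨fun h => ⟨h, hf.2⟩, fun h => h.1⟩

theorem lam_zero_algebraMap (c : k) : lam P hP π 0 (algebraMap k K c) = c := by
  unfold lam
  rw [pow_zero, mul_one, resc_algebraMap]

theorem lam_zero (n : ℕ) : lam P hP π n (0 : K) = 0 := by
  unfold lam
  rw [zero_mul, resc_zero]

include hπ in
theorem lam_ne_zero_of_v_eq {n : ℕ} {f : K} (hf : P.1 f = exp (n : ℤ)) :
    lam P hP π n f ≠ 0 := by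
  rw [Ne, lam_eq_zero_iff P hP π hπ hf.le, hf, exp_le_exp]
  omega

end Lam

end Groth.Agent.H7.GrSect
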