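import Groth.Agent.Lib.Helper7.GrSect.Gen

/-! Lower bound for the number of generators of the irrelevant ideal of `R_P` (helper7). -/

set_option autoImplicit false

namespace Groth.Agent.H7.GrSect

open FunFld WithZero W4c6gradedringsgw Polynomial

variable {k K : Type*} [Field k] [Field K] [Algebra k K] (hK : IsFunctionField k K)

section Low

variable (P : Place k K) (hP : P.deg = 1) (π : K) (hπ : P.1 π = exp (-1 : ℤ))
  (hg : 1 ≤ genus k K)

include hK in
theorem mem_semi_of_coeff_psi_ne_zero (p : RP P) (n : ℕ) (hn : (psi P hP π hπ p).coeff n ≠ 0) :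
    n ∈ semi hK P := by
  rw [mem_semi, not_isGap_iff]
  refine ⟨(p : K[X]).coeff n, coeff_mem P p n, ?_⟩
  apply v_eq_of_mem_L_single (coeff_mem P p n)
  intro hcon
  apply hn
  rw [coeff_psi]
  exact (lam_eq_zero_iff_mem P hP π hπ (coeff_mem P p n)).2 hcon

theorem coeff_psi_zero_of_mem_Rplus (p : RP P) (hp : p ∈ Rplus P) :
    (psi P hP π hπ p).coeff 0 = 0 := by
  rw [mem_Rplus_iff] at hp
  rw [coeff_psi, hp, lam_zero]

/-- the functional `p ↦ coeff_h (Ψ p)` -/
noncomputable def muH (h : ℕ) : RP P →ₗ[k] k :=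
  (Polynomial.lcoeff k h).comp (psi P hP π hπ).toLinearMap

theorem muH_apply (h : ℕ) (p : RP P) : muH P hP π hπ h p = (psi P hP π hπ p).coeff h := rfl

include hK in
theorem muH_mul (h : ℕ) (hh : h ∈ minGens (semi hK P : Set ℕ)) (r p : RP P) (hp : p ∈ Rplus P) :
    muH P hP π hπ h (r * p) = (psi P hP π hπ r).coeff 0 * muH P hP π hπ h p := by
  rw [muH_apply, muH_apply, map_mul, coeff_mul]
  rw [Finset.sum_eq_single (0, h)]
  · intro x hx hne
    rw [Finset.mem_antidiagonal] at hx
    by_contra hcon
    have h1 : (psi P hP π hπ r).coeff x.1 ≠ 0 := fun h0 => hcon (by rw [h0, zero_mul])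
    have h2 : (psi P hP π hπ p).coeff x.2 ≠ 0 := fun h0 => hcon (by rw [h0, mul_zero])
    have hx1 := mem_semi_of_coeff_psi_ne_zero hK P hP π hπ r x.1 h1
    have hx2 := mem_semi_of_coeff_psi_ne_zero hK P hP π hπ p x.2 h2
    have hx20 : x.2 ≠ 0 := by
      intro h0
      rw [h0] at h2
      exact h2 (coeff_psi_zero_of_mem_Rplus P hP π hπ p hp)
    have hx10 : x.1 ≠ 0 := by
      intro h0
      apply hne
      ext
      · exact h0
      · simp only; omega
    exact hh.2.2 x.1 hx1 x.2 hx2 hx10 hx20 hx
  · intro hno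
    exact absurd (Finset.mem_antidiagonal.2 (zero_add h)) hno

include hK hP hg in
theorem coeff_one_v_le (p : RP P) : P.1 ((p : K[X]).coeff 1) ≤ exp ((0 : ℕ) : ℤ) := by
  have h1 := coeff_mem P p 1
  have h := isGap_one hK hg P hP
  rw [IsGap] at h
  rw [Nat.cast_one, h] at h1
  have := ((mem_L_single_iff P).1 h1).1
  simpa using this

/-- the functional `p ↦ p_1` (a constant, as `L(P) = k` in positive genus) -/
noncomputable def mu1 : RP P →ₗ[k] k where
  toFun p := lam P hP π 0 ((p : K[X]).coeff 1)
  map_add' p q := by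
    rw [AddMemClass.coe_add, coeff_add]
    exact lam_add P hP π hπ (coeff_one_v_le hK P hP hg p) (coeff_one_v_le hK P hP hg q)
  map_smul' c p := by
    rw [SetLike.val_smul, coeff_smul, RingHom.id_apply, smul_eq_mul]
    exact lam_smul P hP π hπ c (coeff_one_v_le hK P hP hg p)

theorem mu1_apply (p : RP P) :
    mu1 hK P hP π hπ hg p = lam P hP π 0 ((p : K[X]).coeff 1) := rfl

theorem mu1_mul (r p : RP P) (hp : p ∈ Rplus P) :
    mu1 hK P hP π hπ hg (r * p) = (psi P hP π hπ r).coeff 0 * mu1 hK P hP π hπ hg p := by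
  rw [mem_Rplus_iff] at hp
  rw [mu1_apply, mu1_apply, MulMemClass.coe_mul, mul_coeff_one, hp, mul_zero, add_zero, coeff_psi]
  exact lam_mul (n := 0) (m := 0) P hP π hπ (coeff_v_le P r 0) (coeff_one_v_le hK P hP hg p)

include hK in
theorem mu1_monoT : mu1 hK P hP π hπ hg (mono P 1 1) = 1 := by
  rw [mu1_apply, coe_mono P (one_mem_L_single hK P 1), coeff_monomial, if_pos rfl]
  have := lam_zero_algebraMap P hP π (1 : k)
  rwa [map_one] at this

include hK in
theorem muH_monoT (h : ℕ) (hh : h ≠ 1) : muH P hP π hπ h (mono P 1 1) = 0 := by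
  rw [muH_apply, coeff_psi, coe_mono P (one_mem_L_single hK P 1), coeff_monomial,
    if_neg (Ne.symm hh), lam_zero]

theorem mu1_mono (h : ℕ) (hh : h ≠ 1) (f : K) : mu1 hK P hP π hπ hg (mono P h f) = 0 := by
  by_cases hf : f ∈ L (Finsupp.single P (h : ℤ) : Divisor k K)
  · rw [mu1_apply, coe_mono P hf, coeff_monomial, if_neg hh, lam_zero]
  · unfold mono
    rw [dif_neg hf, map_zero]

theorem muH_mono (h h' : ℕ) (f : K) (hf : f ∈ L (Finsupp.single P (h : ℤ) : Divisor k K)) :
    muH P hP π hπ h' (mono P h f) = if h = h' then lam P hP π h f else 0 := by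
  rw [muH_apply, coeff_psi, coe_mono P hf, coeff_monomial]
  split_ifs with hh
  · subst hh; rfl
  · exact lam_zero P hP π h'

include hK hP hπ hg in
theorem le_spanFinrank_Rplus :
    (minGens (poleOrders P)).ncard + 1 ≤ (Rplus P).spanFinrank := by
  classical
  have hfin := minGens_poleOrders_finite hK P hP
  rw [poleOrders_eq hK P hP] at hfin ⊢
  set S := minGens (semi hK P : Set ℕ) with hS
  have : Fintype S := hfin.fintype
  obtain ⟨s, hs1, hs2⟩ :=
    Submodule.FG.exists_span_finset_card_eq_spanFinrank (Rplus_fg hK P hP π hπ)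
  have hne1 : ∀ h : S, (h : ℕ) ≠ 1 := by
    intro h h1
    have := h.2.1
    rw [h1] at this
    exact (mem_semi hK P 1).1 this (by exact_mod_cast isGap_one hK hg P hP)
  let mu : RP P →ₗ[k] (Option S → k) := LinearMap.pi (fun i =>
    match i with
    | none => mu1 hK P hP π hπ hg
    | some h => muH P hP π hπ h.1)
  have hmu_none : ∀ p, mu p none = mu1 hK P hP π hπ hg p := fun p => rfl
  have hmu_some : ∀ p (h : S), mu p (some h) = muH P hP π hπ h.1 p := fun p h => rfl
  have hmu_mul : ∀ r p : RP P, p ∈ Rplus P → mu (r * p) = (psi P hP π hπ r).coeff 0 • mu p := by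
    intro r p hp
    ext i
    cases i with
    | none =>
      rw [Pi.smul_apply, hmu_none, hmu_none, smul_eq_mul]
      exact mu1_mul hK P hP π hπ hg r p hp
    | some h =>
      rw [Pi.smul_apply, hmu_some, hmu_some, smul_eq_mul]
      exact muH_mul hK P hP π hπ h.1 h.2 r p hp
  have hspan : ∀ p ∈ Submodule.span (RP P) (s : Set (RP P)),
      mu p ∈ Submodule.span k (mu '' (s : Set (RP P))) := by
    intro p hp
    induction hp using Submodule.span_induction with
    | mem x hx => exact Submodule.subset_span ⟨x, hx, rfl⟩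
    | zero => rw [map_zero]; exact zero_mem _
    | add x y _ _ hx hy => rw [map_add]; exact add_mem hx hy
    | smul r x hx ih =>
      rw [smul_eq_mul, hmu_mul r x (hs2 ▸ hx)]
      exact Submodule.smul_mem _ _ ih
  have htop : Submodule.span k (mu '' (s : Set (RP P))) = ⊤ := by
    rw [eq_top_iff, ← (Pi.basisFun k (Option S)).span_eq, Submodule.span_le]
    rintro _ ⟨i, rfl⟩
    rw [Pi.basisFun_apply]
    cases i with
    | none =>
      have hT : mono P 1 1 ∈ Submodule.span (RP P) (s : Set (RP P)) := by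
        rw [hs2]; exact mono_mem_Rplus P one_ne_zero 1
      have h1 := hspan _ hT
      have : mu (mono P 1 1) = Pi.single none 1 := by
        ext j
        cases j with
        | none => rw [hmu_none, mu1_monoT hK P hP π hπ hg, Pi.single_eq_same]
        | some h =>
          rw [hmu_some, muH_monoT hK P hP π hπ h.1 (hne1 h), Pi.single_eq_of_ne (by simp)]
      rw [this] at h1
      exact h1
    | some h =>
      obtain ⟨hx, hvx⟩ := xf_spec hK P h.1 h.2.1
      have hl := lam_ne_zero_of_v_eq P hP π hπ hvx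
      have hT : mono P h.1 (xf hK P h.1) ∈ Submodule.span (RP P) (s : Set (RP P)) := by
        rw [hs2]; exact mono_mem_Rplus P h.2.2.1 _
      have h1 := Submodule.smul_mem _ (lam P hP π h.1 (xf hK P h.1))⁻¹ (hspan _ hT)
      have : (lam P hP π h.1 (xf hK P h.1))⁻¹ • mu (mono P h.1 (xf hK P h.1)) =
          Pi.single (some h) 1 := by
        ext j
        cases j with
        | none =>
          rw [Pi.smul_apply, hmu_none, mu1_mono hK P hP π hπ hg h.1 (hne1 h), smul_zero,
            Pi.single_eq_of_ne (by simp)]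
        | some h' =>
          rw [Pi.smul_apply, hmu_some, muH_mono P hP π hπ h.1 h'.1 _ hx]
          by_cases hhh : h = h'
          · subst hhh
            rw [if_pos rfl, smul_eq_mul, inv_mul_cancel₀ hl, Pi.single_eq_same]
          · rw [if_neg (fun hc => hhh (Subtype.ext hc)), smul_zero,
              Pi.single_eq_of_ne (fun hc => hhh (Option.some_injective _ hc).symm)]
      rw [this] at h1
      exact h1
  have h1 : Module.finrank k (Option S → k) = S.ncard + 1 := by
    rw [Module.finrank_fintype_fun_eq_card, Fintype.card_option, ← Nat.card_eq_fintype_card,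
      Nat.card_coe_set_eq]
  have h2 : Module.finrank k (Submodule.span k (mu '' (s : Set (RP P)))) ≤ s.card := by
    rw [← Finset.coe_image]
    exact (finrank_span_finset_le_card (R := k) (s.image mu)).trans Finset.card_image_le
  rw [htop, finrank_top, h1, hs1] at h2
  exact h2

include hK hP hπ hg in
theorem spanFinrank_Rplus :
    (Rplus P).spanFinrank = (minGens (poleOrders P)).ncard + 1 :=
  le_antisymm (spanFinrank_Rplus_le hK P hP π hπ) (le_spanFinrank_Rplus hK P hP π hπ hg)

end Low

end Groth.Agent.H7.GrSect
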