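import Groth.Agent.Lib.Helper7.GrSect.Psi

/-! `R_P / t ≃ k[H_P]` (helper7). -/

set_option autoImplicit false

namespace Groth.Agent.H7.GrSect

open FunFld WithZero W4c6gradedringsgw Polynomial

variable {k K : Type*} [Field k] [Field K] [Algebra k K] (hK : IsFunctionField k K)

section Iota

/-- the inclusion of a semigroup algebra of a submonoid of `ℕ` into `k[X]` -/
noncomputable def iota (H : AddSubmonoid ℕ) : AddMonoidAlgebra k H →ₐ[k] k[X] :=
  ((toFinsuppIsoAlg k).symm : AddMonoidAlgebra k ℕ →ₐ[k] k[X]).comp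
    (AddMonoidAlgebra.mapDomainAlgHom k k H.subtype)

theorem iota_single (H : AddSubmonoid ℕ) (h : H) (c : k) :
    iota (k := k) H (AddMonoidAlgebra.single h c) = monomial (h : ℕ) c := by
  unfold iota
  rw [AlgHom.comp_apply]
  have : AddMonoidAlgebra.mapDomainAlgHom k k H.subtype (AddMonoidAlgebra.single h c) =
      AddMonoidAlgebra.single (h : ℕ) c := by
    simp [AddMonoidAlgebra.mapDomainAlgHom, AddMonoidAlgebra.mapDomain_single]
  rw [this]
  apply (toFinsuppIsoAlg k).injective
  change toFinsuppIsoAlg k ((toFinsuppIsoAlg k).symm _) = _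
  rw [AlgEquiv.apply_symm_apply]
  exact (toFinsupp_monomial _ _).symm

theorem iota_injective (H : AddSubmonoid ℕ) : Function.Injective (iota (k := k) H) := by
  unfold iota
  rw [AlgHom.coe_comp]
  refine Function.Injective.comp (toFinsuppIsoAlg k).symm.injective ?_
  exact AddMonoidAlgebra.mapDomain_injective Subtype.val_injective

end Iota

section Main

variable (P : Place k K) (hP : P.deg = 1) (π : K) (hπ : P.1 π = exp (-1 : ℤ))
  (hg : 1 ≤ genus k K)

include hK hg in
theorem ker_psi (t : RP P) (a : K) (ha : a ≠ 0) (ht : (t : K[X]) = C a * X) :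
    RingHom.ker (psi P hP π hπ) = Ideal.span {t} := by
  have ha1 : a ∈ L (Finsupp.single P 1 : Divisor k K) := by
    have := coeff_mem P t 1
    rwa [ht, coeff_C_mul, coeff_X_one, mul_one, Nat.cast_one] at this
  obtain ⟨c, hc⟩ := mem_L_single_one hK hg P hP ha1
  apply le_antisymm
  · intro p hp
    rw [RingHom.mem_ker, psi_eq_zero_iff] at hp
    have h0 : (p : K[X]).coeff 0 = 0 := by
      have := hp 0
      rw [show ((0 : ℕ) : ℤ) - 1 = -1 by norm_num, L_single_neg_one hK P hP] at this
      exact (Submodule.mem_bot k).1 this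
    have hq : C a⁻¹ * divX (p : K[X]) ∈ RP P := by
      rw [mem_RP_iff]
      intro n
      rw [coeff_C_mul, coeff_divX]
      have := hp (n + 1)
      rw [show ((n + 1 : ℕ) : ℤ) - 1 = n by push_cast; ring] at this
      rw [← hc, ← map_inv₀, ← Algebra.smul_def]
      exact Submodule.smul_mem _ _ this
    rw [Ideal.mem_span_singleton]
    refine ⟨⟨_, hq⟩, ?_⟩
    apply Subtype.ext
    rw [MulMemClass.coe_mul, ht]
    have := divX_mul_X_add (p : K[X])
    rw [h0, C_0, add_zero] at this
    calc (p : K[X]) = divX (p : K[X]) * X := this.symm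
      _ = C a * X * (C a⁻¹ * divX (p : K[X])) := by
        rw [mul_mul_mul_comm, ← C_mul, mul_inv_cancel₀ ha, C_1, one_mul, mul_comm]
  · rw [Ideal.span_singleton_le_iff_mem, RingHom.mem_ker, psi_eq_zero_iff]
    intro n
    rw [ht, coeff_C_mul, coeff_X]
    split_ifs with h
    · subst h
      rw [mul_one, ← hc, Nat.cast_one, sub_self, Finsupp.single_zero, L_zero hK]
      exact Submodule.mem_one.2 ⟨c, rfl⟩
    · rw [mul_zero]; exact zero_mem _

include hK hg hπ hP in
theorem prime_t (t : RP P) (a : K) (ha : a ≠ 0) (ht : (t : K[X]) = C a * X) : Prime t := by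
  have hne : t ≠ 0 := by
    intro h
    have h1 := congrArg (fun q : RP P => (q : K[X]).coeff 1) h
    simp only [ht, coeff_C_mul, coeff_X_one, mul_one, ZeroMemClass.coe_zero, coeff_zero] at h1
    exact ha h1
  rw [← Ideal.span_singleton_prime hne, ← ker_psi hK P hP π hπ hg t a ha ht]
  exact RingHom.ker_isPrime _

include hK in
theorem psi_mem_range_iota (p : RP P) :
    psi P hP π hπ p ∈ (iota (k := k) (semi hK P)).range := by
  rw [← Polynomial.sum_monomial_eq (psi P hP π hπ p), Polynomial.sum_def]
  refine Subalgebra.sum_mem _ fun n hn => ?_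
  have hn' : (psi P hP π hπ p).coeff n ≠ 0 := mem_support_iff.1 hn
  have hmem : n ∈ semi hK P := by
    rw [mem_semi, not_isGap_iff]
    refine ⟨(p : K[X]).coeff n, coeff_mem P p n, ?_⟩
    apply v_eq_of_mem_L_single (coeff_mem P p n)
    intro hcon
    apply hn'
    rw [coeff_psi]
    exact (lam_eq_zero_iff_mem P hP π hπ (coeff_mem P p n)).2 hcon
  exact ⟨AddMonoidAlgebra.single ⟨n, hmem⟩ _, iota_single _ _ _⟩

include hK in
theorem exists_psi_eq_iota (y : AddMonoidAlgebra k (semi hK P)) :
    ∃ p : RP P, psi P hP π hπ p = iota (k := k) (semi hK P) y := by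
  induction y using AddMonoidAlgebra.induction_linear with
  | zero => exact ⟨0, by rw [map_zero, map_zero]⟩
  | add x y hx hy =>
    obtain ⟨p, hp⟩ := hx
    obtain ⟨q, hq⟩ := hy
    exact ⟨p + q, by rw [map_add, map_add, hp, hq]⟩
  | single h c =>
    obtain ⟨x, hx, hv⟩ := (not_isGap_iff P ((h : ℕ) : ℤ)).1 ((mem_semi hK P h).1 h.2)
    have hl := lam_ne_zero_of_v_eq P hP π hπ hv
    have hmem : monomial (h : ℕ) ((c / lam P hP π h x) • x) ∈ RP P := by
      rw [mem_RP_iff]
      intro n
      rw [coeff_monomial]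
      split_ifs with hh
      · subst hh
        exact Submodule.smul_mem _ _ hx
      · exact zero_mem _
    refine ⟨⟨_, hmem⟩, ?_⟩
    rw [iota_single]
    ext m
    rw [coeff_psi, coeff_monomial, coeff_monomial]
    split_ifs with hh
    · subst hh
      rw [lam_smul P hP π hπ _ hv.le, div_mul_cancel₀ _ hl]
    · exact lam_zero P hP π m

/-- the leading-term map with values in the semigroup algebra -/
noncomputable def phi : RP P →ₐ[k] AddMonoidAlgebra k (semi hK P) :=
  ((AlgEquiv.ofInjective (iota (k := k) (semi hK P)) (iota_injective _)).symm :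
      (iota (k := k) (semi hK P)).range →ₐ[k] AddMonoidAlgebra k (semi hK P)).comp
    ((psi P hP π hπ).codRestrict _ (psi_mem_range_iota hK P hP π hπ))

theorem iota_phi (p : RP P) :
    iota (k := k) (semi hK P) (phi hK P hP π hπ p) = psi P hP π hπ p := by
  unfold phi
  rw [AlgHom.comp_apply]
  have := (AlgEquiv.ofInjective (iota (k := k) (semi hK P)) (iota_injective _)).apply_symm_apply
    ((psi P hP π hπ).codRestrict _ (psi_mem_range_iota hK P hP π hπ) p)
  exact congrArg Subtype.val this

theorem phi_surjective : Function.Surjective (phi hK P hP π hπ) := by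
  intro y
  obtain ⟨p, hp⟩ := exists_psi_eq_iota hK P hP π hπ y
  refine ⟨p, iota_injective _ ?_⟩
  rw [iota_phi, hp]

theorem ker_phi : RingHom.ker (phi hK P hP π hπ) = RingHom.ker (psi P hP π hπ) := by
  ext p
  rw [RingHom.mem_ker, RingHom.mem_ker, ← iota_phi hK P hP π hπ p]
  constructor
  · intro h; rw [h, map_zero]
  · intro h
    apply iota_injective (k := k) (semi hK P)
    rw [h, map_zero]

include hK hP hπ hg in
theorem main (t : RP P) (a : K) (ha : a ≠ 0) (ht : (t : K[X]) = C a * X) :
    Prime t ∧ Nonempty ((RP P ⧸ Ideal.span {t}) ≃ₐ[k]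
      AddMonoidAlgebra k (AddSubmonoid.closure (poleOrders P))) := by
  refine ⟨prime_t hK P hP π hπ hg t a ha ht, ?_⟩
  rw [closure_poleOrders hK P hP]
  have hker : Ideal.span {t} = RingHom.ker (phi hK P hP π hπ) := by
    rw [ker_phi, ker_psi hK P hP π hπ hg t a ha ht]
  exact ⟨(Ideal.quotientEquivAlgOfEq k hker).trans
    (Ideal.quotientKerAlgEquivOfSurjective (phi_surjective hK P hP π hπ))⟩

end Main

end Groth.Agent.H7.GrSect
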