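import Groth.Agent.Lib.Helper7.GrSect.Main

/-! Minimal generators of a numerical semigroup (helper7). -/

set_option autoImplicit false

namespace Groth.Agent.H7.GrSect

open W4c6gradedringsgw

theorem exists_minGen_add (H : AddSubmonoid ℕ) :
    ∀ n : ℕ, n ∈ H → n ≠ 0 → ∃ h ∈ minGens (H : Set ℕ), ∃ j ∈ H, n = h + j := by
  intro n
  induction n using Nat.strong_induction_on with
  | _ n ih =>
    intro hn hn0
    by_cases hmin : n ∈ minGens (H : Set ℕ)
    · exact ⟨n, hmin, 0, H.zero_mem, (add_zero n).symm⟩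
    · have : ∃ a ∈ H, ∃ b ∈ H, a ≠ 0 ∧ b ≠ 0 ∧ a + b = n := by
        by_contra hno
        apply hmin
        refine ⟨hn, hn0, fun a ha b hb ha0 hb0 hab => hno ⟨a, ha, b, hb, ha0, hb0, hab⟩⟩
      obtain ⟨a, ha, b, hb, ha0, hb0, hab⟩ := this
      obtain ⟨h, hh, j, hj, rfl⟩ := ih a (by omega) ha ha0
      exact ⟨h, hh, j + b, H.add_mem hj hb, by omega⟩

theorem minGens_finite (H : AddSubmonoid ℕ) (m : ℕ) (hm : m ∈ H) (hm0 : m ≠ 0) :
    (minGens (H : Set ℕ)).Finite := by
  refine Set.Finite.of_injOn (f := fun h => h % m) (t := Set.Iio m) ?_ ?_ (Set.finite_Iio m)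
  · intro h _
    exact Nat.mod_lt _ (Nat.pos_of_ne_zero hm0)
  · intro h₁ hh₁ h₂ hh₂ heq
    simp only at heq
    by_contra hne
    wlog hlt : h₁ < h₂ generalizing h₁ h₂
    · exact this hh₂ hh₁ heq.symm (Ne.symm hne) (by omega)
    obtain ⟨j, hj⟩ : ∃ j, h₂ = h₁ + m * j := by
      have : (h₂ - h₁) % m = 0 := Nat.sub_mod_eq_zero_of_mod_eq heq.symm
      obtain ⟨j, hj⟩ := Nat.dvd_of_mod_eq_zero this
      exact ⟨j, by omega⟩
    have hj0 : j ≠ 0 := by rintro rfl; omega
    exact hh₂.2.2 h₁ hh₁.1 (m * j) (by rw [mul_comm]; exact H.nsmul_mem hm j) hh₁.2.1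
      (mul_ne_zero hm0 hj0) hj.symm

end Groth.Agent.H7.GrSect

namespace Groth.Agent.H7.GrSect

open FunFld WithZero W4c6gradedringsgw

variable {k K : Type*} [Field k] [Field K] [Algebra k K] (hK : IsFunctionField k K)

include hK in
theorem exists_pos_mem_semi (P : Place k K) (hP : P.deg = 1) :
    ∃ m : ℕ, m ∈ semi hK P ∧ m ≠ 0 := by
  classical
  set g := genus k K with hgdef
  by_contra hno
  push Not at hno
  have h1 := gapCount_eq_genus hK P hP (N := 2 * g + 1) (by push_cast; omega)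
  have h2 : gapCount P (2 * g + 1) = 2 * g + 1 := by
    unfold gapCount
    rw [Finset.filter_true_of_mem]
    · simp
    · intro m hm
      rw [Finset.mem_Icc] at hm
      by_contra hgap
      have := hno m ((mem_semi hK P m).2 hgap)
      omega
  omega

include hK in
theorem minGens_poleOrders_finite (P : Place k K) (hP : P.deg = 1) :
    (minGens (poleOrders P)).Finite := by
  obtain ⟨m, hm, hm0⟩ := exists_pos_mem_semi hK P hP
  rw [poleOrders_eq hK P hP]
  exact minGens_finite _ m hm hm0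

end Groth.Agent.H7.GrSect
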