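import Groth.Agent.Lib.Helper7.GrSect.Semi

/-! The leading-term homomorphism on the section ring of a point divisor (helper7). -/

set_option autoImplicit false

namespace Groth.Agent.H7.GrSect

open FunFld WithZero W4c6gradedringsgw Polynomial

variable {k K : Type*} [Field k] [Field K] [Algebra k K] (hK : IsFunctionField k K)

section Psi

variable (P : Place k K) (hP : P.deg = 1) (π : K) (hπ : P.1 π = exp (-1 : ℤ))

/-- the section ring of the point divisor `P` -/
noncomputable abbrev RP : Subalgebra k K[X] := sectRing (Finsupp.single P 1 : Divisor k K)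

theorem mem_RP_iff (p : K[X]) :
    p ∈ RP P ↔ ∀ n : ℕ, p.coeff n ∈ L (Finsupp.single P (n : ℤ) : Divisor k K) := by
  constructor
  · intro h n
    have := h n
    rwa [zsmul_single_one] at this
  · intro h n
    rw [zsmul_single_one]
    exact h n

theorem coeff_mem (p : RP P) (n : ℕ) :
    (p : K[X]).coeff n ∈ L (Finsupp.single P (n : ℤ) : Divisor k K) :=
  (mem_RP_iff P _).1 p.2 n

theorem coeff_v_le (p : RP P) (n : ℕ) : P.1 ((p : K[X]).coeff n) ≤ exp (n : ℤ) :=
  ((mem_L_single_iff P).1 (coeff_mem P p n)).1

include hπ in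
theorem lam_sum {ι : Type*} (s : Finset ι) (n : ℕ) (f : ι → K)
    (hf : ∀ i ∈ s, P.1 (f i) ≤ exp (n : ℤ)) :
    lam P hP π n (∑ i ∈ s, f i) = ∑ i ∈ s, lam P hP π n (f i) := by
  classical
  induction s using Finset.induction_on with
  | empty => simp [lam_zero]
  | insert a s ha ih =>
    rw [Finset.sum_insert ha, Finset.sum_insert ha,
      lam_add P hP π hπ (hf a (Finset.mem_insert_self _ _)) ?_,
      ih (fun i hi => hf i (Finset.mem_insert_of_mem hi))]
    exact Valuation.map_sum_le _ (fun i hi => hf i (Finset.mem_insert_of_mem hi))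

/-- the leading-term map as a function -/
noncomputable def psiFun (p : K[X]) : k[X] :=
  ∑ n ∈ Finset.range (p.natDegree + 1), monomial n (lam P hP π n (p.coeff n))

theorem coeff_psiFun (p : K[X]) (m : ℕ) :
    (psiFun P hP π p).coeff m = lam P hP π m (p.coeff m) := by
  unfold psiFun
  rw [finsetSum_coeff]
  simp only [coeff_monomial]
  rw [Finset.sum_ite_eq']
  split_ifs with h
  · rfl
  · have : p.coeff m = 0 := coeff_eq_zero_of_natDegree_lt (by
      simp only [Finset.mem_range, not_lt] at h; omega)
    rw [this, lam_zero]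

/-- the leading-term homomorphism `R_P → k[X]` -/
noncomputable def psi : RP P →ₐ[k] k[X] where
  toFun p := psiFun P hP π (p : K[X])
  map_one' := by
    ext m
    rw [coeff_psiFun, OneMemClass.coe_one, coeff_one, coeff_one]
    split_ifs with h
    · subst h
      have := lam_zero_algebraMap P hP π (1 : k)
      rwa [map_one] at this
    · exact lam_zero P hP π m
  map_mul' p q := by
    ext m
    rw [coeff_psiFun, MulMemClass.coe_mul, coeff_mul, coeff_mul,
      lam_sum P hP π hπ]
    · refine Finset.sum_congr rfl fun x hx => ?_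
      rw [Finset.mem_antidiagonal] at hx
      rw [coeff_psiFun, coeff_psiFun, ← hx]
      exact lam_mul P hP π hπ (coeff_v_le P p x.1) (coeff_v_le P q x.2)
    · intro x hx
      rw [Finset.mem_antidiagonal] at hx
      rw [map_mul, ← hx]
      push_cast
      rw [exp_add]
      exact mul_le_mul' (coeff_v_le P p x.1) (coeff_v_le P q x.2)
  map_zero' := by
    ext m
    rw [coeff_psiFun, ZeroMemClass.coe_zero, coeff_zero, coeff_zero]
    exact lam_zero P hP π m
  map_add' p q := by
    ext m
    rw [coeff_add, coeff_psiFun, coeff_psiFun, coeff_psiFun, AddMemClass.coe_add, coeff_add]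
    exact lam_add P hP π hπ (coeff_v_le P p m) (coeff_v_le P q m)
  commutes' c := by
    ext m
    rw [coeff_psiFun, Subalgebra.coe_algebraMap, Polynomial.algebraMap_apply,
      Polynomial.algebraMap_apply, coeff_C, coeff_C]
    split_ifs with h
    · subst h
      rw [Algebra.algebraMap_self_apply]
      exact lam_zero_algebraMap P hP π c
    · exact lam_zero P hP π m

theorem coeff_psi (p : RP P) (m : ℕ) :
    (psi P hP π hπ p).coeff m = lam P hP π m ((p : K[X]).coeff m) :=
  coeff_psiFun P hP π _ m

theorem psi_eq_zero_iff (p : RP P) :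
    psi P hP π hπ p = 0 ↔
      ∀ n : ℕ, (p : K[X]).coeff n ∈ L (Finsupp.single P ((n : ℤ) - 1) : Divisor k K) := by
  rw [Polynomial.ext_iff]
  refine forall_congr' fun n => ?_
  rw [coeff_psi, coeff_zero]
  exact lam_eq_zero_iff_mem P hP π hπ (coeff_mem P p n)

end Psi

end Groth.Agent.H7.GrSect
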