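import Groth.Agent.Lib.Helper5.FunFld.Gaps
import Groth.Agent.Lib.Helper5.FunFld.Rational
import Groth.Agent.Lib.Helper5.FunFld.Genus0

/-! Leading constants at a place of degree one (helper7). -/

set_option autoImplicit false

namespace Groth.Agent.H7.GrSect

open FunFld WithZero

variable {k K : Type*} [Field k] [Field K] [Algebra k K]

section Resc

variable (P : Place k K) (hP : P.deg = 1)

open scoped Classical in
/-- the residue constant of an element integral at a place of degree one (`0` otherwise) -/
noncomputable def resc (y : K) : k :=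
  if h : P.1 y ≤ 1 then Classical.choose (P.exists_const_sub_lt hP h) else 0

theorem resc_spec {y : K} (hy : P.1 y ≤ 1) : P.1 (y - algebraMap k K (resc P hP y)) < 1 := by
  rw [resc, dif_pos hy]
  exact Classical.choose_spec (P.exists_const_sub_lt hP hy)

theorem resc_unique {y : K} (c : k) (hc : P.1 (y - algebraMap k K c) < 1) :
    resc P hP y = c := by
  have hy : P.1 y ≤ 1 := by
    have : y = (y - algebraMap k K c) + algebraMap k K c := by ring
    rw [this]
    exact (P.1.map_add _ _).trans (max_le hc.le (P.v_algebraMap_le c))
  have h1 := resc_spec P hP hy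
  by_contra hne
  have h2 : P.1 (algebraMap k K (resc P hP y - c)) < 1 := by
    have : algebraMap k K (resc P hP y - c) =
        (y - algebraMap k K c) - (y - algebraMap k K (resc P hP y)) := by
      rw [map_sub]; ring
    rw [this]
    exact lt_of_le_of_lt (Valuation.map_sub _ _ _) (max_lt hc h1)
  rw [P.v_algebraMap (sub_ne_zero.2 hne)] at h2
  exact lt_irrefl _ h2

theorem resc_algebraMap (c : k) : resc P hP (algebraMap k K c) = c := by
  apply resc_unique
  rw [sub_self, map_zero]
  exact zero_lt_one

theorem resc_add {y z : K} (hy : P.1 y ≤ 1) (hz : P.1 z ≤ 1) :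
    resc P hP (y + z) = resc P hP y + resc P hP z := by
  apply resc_unique
  have : y + z - algebraMap k K (resc P hP y + resc P hP z) =
      (y - algebraMap k K (resc P hP y)) + (z - algebraMap k K (resc P hP z)) := by
    rw [map_add]; ring
  rw [this]
  exact lt_of_le_of_lt (P.1.map_add _ _) (max_lt (resc_spec P hP hy) (resc_spec P hP hz))

theorem resc_mul {y z : K} (hy : P.1 y ≤ 1) (hz : P.1 z ≤ 1) :
    resc P hP (y * z) = resc P hP y * resc P hP z := by
  apply resc_unique
  have : y * z - algebraMap k K (resc P hP y * resc P hP z) =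
      (y - algebraMap k K (resc P hP y)) * z +
        algebraMap k K (resc P hP y) * (z - algebraMap k K (resc P hP z)) := by
    rw [map_mul]; ring
  rw [this]
  refine lt_of_le_of_lt (P.1.map_add _ _) (max_lt ?_ ?_)
  · rw [map_mul]
    calc P.1 (y - algebraMap k K (resc P hP y)) * P.1 z
        ≤ P.1 (y - algebraMap k K (resc P hP y)) * 1 := mul_le_mul' le_rfl hz
      _ < 1 := by rw [mul_one]; exact resc_spec P hP hy
  · rw [map_mul]
    calc P.1 (algebraMap k K (resc P hP y)) * P.1 (z - algebraMap k K (resc P hP z))
        ≤ 1 * P.1 (z - algebraMap k K (resc P hP z)) :=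
          mul_le_mul' (P.v_algebraMap_le _) le_rfl
      _ < 1 := by rw [one_mul]; exact resc_spec P hP hz

theorem resc_eq_zero_iff {y : K} (hy : P.1 y ≤ 1) : resc P hP y = 0 ↔ P.1 y < 1 := by
  constructor
  · intro h
    have := resc_spec P hP hy
    rwa [h, map_zero, sub_zero] at this
  · intro h
    apply resc_unique
    rwa [map_zero, sub_zero]

theorem resc_zero : resc P hP (0 : K) = 0 := by
  apply resc_unique
  simp

theorem resc_smul (c : k) {y : K} (hy : P.1 y ≤ 1) :
    resc P hP (c • y) = c * resc P hP y := by
  rw [Algebra.smul_def, resc_mul P hP (P.v_algebraMap_le c) hy, resc_algebraMap]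

end Resc

end Groth.Agent.H7.GrSect
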