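import Groth.Agent.Lib.Helper7.GrSect.Lam
import Groth.Agent.Lib.Helper5.FunFld.Weierstrass
import Groth.Prelude.Def_W4c6gradedringsgwSect

/-! The Weierstrass semigroup at a place of degree one (helper7). -/

set_option autoImplicit false

namespace Groth.Agent.H7.GrSect

open FunFld WithZero W4c6gradedringsgw

variable {k K : Type*} [Field k] [Field K] [Algebra k K] (hK : IsFunctionField k K)

theorem zsmul_single_one (P : Place k K) (n : ℤ) :
    n • (Finsupp.single P 1 : Divisor k K) = Finsupp.single P n := by
  rw [Finsupp.smul_single, smul_eq_mul, mul_one]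

include hK in
theorem mem_poleOrders_iff (P : Place k K) (hP : P.deg = 1) (n : ℕ) :
    n ∈ poleOrders P ↔ ¬ IsGap P (n : ℤ) := by
  classical
  unfold poleOrders
  rw [Set.mem_setOf_eq, zsmul_single_one, zsmul_single_one]
  have hle := ell_sub_le hK (Finsupp.single P ((n : ℤ) - 1) : Divisor k K)
    (Finsupp.single P (n : ℤ)) (single_mono P (by omega))
  rw [Divisor.deg_single, Divisor.deg_single, hP] at hle
  have hmono := ell_mono hK (single_mono (k := k) P (show (n : ℤ) - 1 ≤ (n : ℤ) by omega))
  have hfin := finiteDimensional_L hK (Finsupp.single P (n : ℤ) : Divisor k K)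
  constructor
  · intro h hgap
    rw [IsGap] at hgap
    have : ell (Finsupp.single P (n : ℤ) : Divisor k K) =
        ell (Finsupp.single P ((n : ℤ) - 1) : Divisor k K) := by unfold ell; rw [hgap]
    omega
  · intro hgap
    have hlt : ell (Finsupp.single P ((n : ℤ) - 1) : Divisor k K) <
        ell (Finsupp.single P (n : ℤ) : Divisor k K) := by
      refine lt_of_le_of_ne hmono ?_
      intro heq
      apply hgap
      rw [IsGap]
      symm
      exact Submodule.eq_of_le_of_finrank_eq (L_single_mono P (by omega)) heq
    push_cast at hle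
    omega

include hK in
theorem not_isGap_zero (P : Place k K) : ¬ IsGap P (0 : ℤ) := by
  rw [not_isGap_iff]
  refine ⟨1, ?_, by simp⟩
  rw [Finsupp.single_zero, L_zero hK]
  exact Submodule.one_le.1 le_rfl

include hK in
/-- the Weierstrass semigroup as an additive submonoid of `ℕ` -/
def semi (P : Place k K) : AddSubmonoid ℕ where
  carrier := {n | ¬ IsGap P (n : ℤ)}
  zero_mem' := by
    simpa using not_isGap_zero hK P
  add_mem' {a b} ha hb := by
    simp only [Set.mem_setOf_eq] at ha hb ⊢
    push_cast
    exact not_isGap_add ha hb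

theorem mem_semi (P : Place k K) (n : ℕ) : n ∈ semi hK P ↔ ¬ IsGap P (n : ℤ) := Iff.rfl

include hK in
theorem poleOrders_eq (P : Place k K) (hP : P.deg = 1) :
    poleOrders P = (semi hK P : Set ℕ) := by
  ext n
  rw [mem_poleOrders_iff hK P hP]
  rfl

include hK in
theorem closure_poleOrders (P : Place k K) (hP : P.deg = 1) :
    AddSubmonoid.closure (poleOrders P) = semi hK P := by
  rw [poleOrders_eq hK P hP, AddSubmonoid.closure_eq]

include hK in
/-- in positive genus, `1` is a gap at every place of degree one -/
theorem isGap_one (hg : 1 ≤ genus k K) (P : Place k K) (hP : P.deg = 1) : IsGap P (1 : ℤ) := by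
  by_contra hgap
  rw [not_isGap_iff] at hgap
  obtain ⟨x, hx, hv⟩ := hgap
  have hpd := poleDiv_eq_single hK (by norm_num : (0 : ℤ) ≤ 1) hx hv
  have hxr : x ∉ Set.range (algebraMap k K) := by
    rintro ⟨c, rfl⟩
    have := P.v_algebraMap_le c
    rw [hv] at this
    have h1 : (exp (1 : ℤ) : WithZero (Multiplicative ℤ)) ≤ exp (0 : ℤ) := by simpa using this
    rw [exp_le_exp] at h1
    omega
  have htop := adjoin_eq_top_of_deg_poleDiv hK hxr (by
    rw [hpd, Divisor.deg_single, hP]; norm_num)
  have := genus_eq_zero_of_adjoin_eq_top hK htop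
  omega

include hK in
theorem mem_L_single_one (hg : 1 ≤ genus k K) (P : Place k K) (hP : P.deg = 1) {a : K}
    (ha : a ∈ L (Finsupp.single P 1 : Divisor k K)) : ∃ c : k, algebraMap k K c = a := by
  have h := isGap_one hK hg P hP
  rw [IsGap] at h
  rw [h] at ha
  have e : (1 : ℤ) - 1 = 0 := by norm_num
  rw [e, Finsupp.single_zero, L_zero hK] at ha
  exact Submodule.mem_one.1 ha

include hK in
theorem L_single_neg_one (P : Place k K) (hP : P.deg = 1) :
    L (Finsupp.single P (-1) : Divisor k K) = ⊥ := by
  apply L_eq_bot_of_deg_neg hK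
  rw [Divisor.deg_single, hP]
  norm_num

end Groth.Agent.H7.GrSect
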